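import Groth.Agent.Lib.Depth.CM
import Groth.Agent.Lib.GrLC.LocalDim
import Groth.Agent.Lib.Depth17.Global

/-!
# Elementary facts on depth and Cohen–Macaulay modules
-/

set_option autoImplicit false
universe u

open IsLocalRing RingTheory.Sequence

namespace GrothLib.CMBasics

/-- `dim M_p + dim M/pM ≤ dim M`. -/
theorem supportDim_localized_add_quot_le {R : Type u} [CommRing R] (M : Type u) [AddCommGroup M] [Module R M]
    [Module.Finite R M] (p : Ideal R) [p.IsPrime] :
    Module.supportDim (Localization.AtPrime p) (LocalizedModule p.primeCompl M) +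
      Module.supportDim R (M ⧸ (p • (⊤ : Submodule R M))) ≤ Module.supportDim R M := by
  by_cases hp : (⟨p, inferInstance⟩ : PrimeSpectrum R) ∈ Module.support R M
  · let x : Module.support R M := ⟨⟨p, inferInstance⟩, hp⟩
    haveI : Nonempty (Module.support R M) := ⟨x⟩
    let e1 : {q : PrimeSpectrum R // q ∈ Module.support R M ∧ q.asIdeal ≤ p} ≃o Set.Iic x :=
      { toFun := fun q => ⟨⟨q.1, q.2.1⟩, q.2.2⟩
        invFun := fun q => ⟨q.1.1, q.1.2, q.2⟩
        left_inv := fun _ => rfl
        right_inv := fun _ => rfl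
        map_rel_iff' := Iff.rfl }
    have hmem : ∀ q, q ∈ Module.support R (M ⧸ (p • (⊤ : Submodule R M))) ↔
        q ∈ Module.support R M ∧ p ≤ q.asIdeal := fun q => by
      rw [Module.support_quotient]; rfl
    let e2 : Module.support R (M ⧸ (p • (⊤ : Submodule R M))) ≃o Set.Ici x :=
      { toFun := fun q => ⟨⟨q.1, ((hmem q.1).1 q.2).1⟩, ((hmem q.1).1 q.2).2⟩
        invFun := fun q => ⟨q.1.1, (hmem q.1.1).2 ⟨q.1.2, q.2⟩⟩
        left_inv := fun _ => rfl
        right_inv := fun _ => rfl
        map_rel_iff' := Iff.rfl }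
    rw [GrLC.supportDim_localized, Order.krullDim_eq_of_orderIso e1, ← Order.height_eq_krullDim_Iic]
    unfold Module.supportDim
    rw [Order.krullDim_eq_of_orderIso e2, ← Order.coheight_eq_krullDim_Ici,
      Order.krullDim_eq_iSup_height_add_coheight_of_nonempty, ← WithBot.coe_add, WithBot.coe_le_coe]
    exact le_iSup (fun a : Module.support R M => Order.height a + Order.coheight a) x
  · haveI : Subsingleton (LocalizedModule p.primeCompl M) := Module.notMem_support_iff.1 hp
    rw [(Module.supportDim_eq_bot_iff_subsingleton _ _).2 ‹_›, WithBot.bot_add]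
    exact bot_le

variable {R : Type u} [CommRing R] [IsNoetherianRing R] [IsLocalRing R]
  {M : Type u} [AddCommGroup M] [Module R M] [Module.Finite R M]

theorem depth_eq_zero_iff : LocCoh.depth R M = 0 ↔ maximalIdeal R ∈ associatedPrimes R M := by
  constructor
  · intro h
    rcases subsingleton_or_nontrivial M with hM | hM
    · rw [Depth.depth_eq_top_of_subsingleton (M := M)] at h
      exact absurd h ENat.top_ne_zero
    obtain ⟨p, hp, hle⟩ := Depth.exists_associatedPrime_ge (M := M) (maximalIdeal.isMaximal R).ne_top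
      (by rw [show LocCoh.idealDepth (maximalIdeal R) M = 0 from h]; simp)
    rwa [(maximalIdeal.isMaximal R).eq_of_le hp.isPrime.ne_top hle]
  · intro h
    have h1 := Depth.depth_le_dim_quotient h
    rw [ringKrullDim_eq_zero_of_isField ((Ideal.Quotient.maximal_ideal_iff_isField_quotient _).1 inferInstance),
      ← WithBot.coe_zero, WithBot.coe_le_coe] at h1
    exact nonpos_iff_eq_zero.1 h1

theorem forall_not_isSMulRegular_iff :
    (∀ x ∈ maximalIdeal R, ¬ IsSMulRegular M x) ↔ Nontrivial (ResidueField R →ₗ[R] M) := by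
  constructor
  · intro h
    rcases subsingleton_or_nontrivial M with hM | hM
    · exact absurd (fun _ _ _ => Subsingleton.elim _ _) (h 0 (Ideal.zero_mem _))
    obtain ⟨p, hp, hle⟩ := Depth.exists_associatedPrime_ge (M := M) (maximalIdeal.isMaximal R).ne_top
      (by rw [Depth.one_le_idealDepth_iff (maximalIdeal.isMaximal R).ne_top]; simpa using h)
    rw [← (maximalIdeal.isMaximal R).eq_of_le hp.isPrime.ne_top hle] at hp
    obtain ⟨-, f, hf⟩ := (isAssociatedPrime_iff_exists_injective_linearMap _ _).1 hp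
    haveI : Nontrivial (R ⧸ maximalIdeal R) := Ideal.Quotient.nontrivial_iff.2 (maximalIdeal.isMaximal R).ne_top
    refine ⟨⟨f, 0, fun h0 => ?_⟩⟩
    exact one_ne_zero (hf (a₁ := (1 : R ⧸ maximalIdeal R)) (by rw [map_zero]; exact LinearMap.congr_fun h0 1))
  · rintro ⟨f, g, hfg⟩ x hx hreg
    refine hfg (LinearMap.ext fun z => sub_eq_zero.1 (hreg.right_eq_zero_of_smul ?_))
    rw [smul_sub, ← map_smul, ← map_smul]
    have : x • z = 0 := by
      obtain ⟨r, rfl⟩ := Ideal.Quotient.mk_surjective (I := maximalIdeal R) z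
      exact Ideal.Quotient.eq_zero_iff_mem.2 (Ideal.mul_mem_right r _ hx)
    rw [this, map_zero, map_zero, sub_self]

theorem depth_self_eq_zero_iff [IsReduced R] : LocCoh.depth R R = 0 ↔ IsField R := by
  rw [depth_eq_zero_iff]
  constructor
  · intro h
    rw [isField_iff_maximalIdeal_eq, eq_bot_iff]
    obtain ⟨hP, f, hf⟩ := (isAssociatedPrime_iff_exists_injective_linearMap _ _).1 h
    haveI : Nontrivial (R ⧸ maximalIdeal R) := Ideal.Quotient.nontrivial_iff.2 (maximalIdeal.isMaximal R).ne_top
    intro x hx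
    have hz : ∀ y ∈ maximalIdeal R, y * f 1 = 0 := fun y hy => by
      rw [← smul_eq_mul, ← map_smul, Algebra.smul_def, mul_one, Ideal.Quotient.algebraMap_eq,
        Ideal.Quotient.eq_zero_iff_mem.2 hy, map_zero]
    by_cases hu : IsUnit (f 1)
    · exact (hu.mul_left_eq_zero).1 (hz x hx)
    · exfalso
      have h2 : f 1 = 0 := IsReduced.eq_zero _ ⟨2, by rw [pow_two]; exact hz _ hu⟩
      exact one_ne_zero (hf (a₁ := (1 : R ⧸ maximalIdeal R)) (h2.trans f.map_zero.symm))
  · intro h
    letI := h.toField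
    have hm : maximalIdeal R = ⊥ := (isField_iff_maximalIdeal_eq).1 h
    obtain ⟨p, hp⟩ := associatedPrimes.nonempty R R
    rwa [(maximalIdeal.isMaximal R).eq_of_le hp.isPrime.ne_top (hm ▸ bot_le)]

theorem ringKrullDim_quotient_eq_supportDim (hM : LocCoh.IsCohenMacaulayModule R M) (p : Ideal R)
    (hp : p ∈ associatedPrimes R M) : ringKrullDim (R ⧸ p) = Module.supportDim R M :=
  le_antisymm (Depth.dim_quotient_le_supportDim hp) (hM.le.trans (Depth.depth_le_dim_quotient hp))

theorem isCM_quotient_ofList (xs : List R) (hxs : ∀ x ∈ xs, x ∈ maximalIdeal R) :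
    ∀ (M : Type u) [AddCommGroup M] [Module R M] [Module.Finite R M],
      LocCoh.IsCohenMacaulayModule R M → IsWeaklyRegular M xs →
      LocCoh.IsCohenMacaulayModule R (M ⧸ (Ideal.ofList xs • (⊤ : Submodule R M))) := by
  induction xs with
  | nil =>
    intro M _ _ _ hM _
    have e : (M ⧸ (Ideal.ofList ([] : List R) • (⊤ : Submodule R M))) ≃ₗ[R] M :=
      Submodule.quotEquivOfEqBot _ (by rw [Ideal.ofList_nil, Submodule.bot_smul])
    haveI := Depth.nontrivial_of_isCM hM
    unfold LocCoh.IsCohenMacaulayModule at hM ⊢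
    rw [Module.supportDim_eq_of_equiv e, hM, show LocCoh.depth R _ = LocCoh.depth R _ from Depth17.idealDepth_congr (maximalIdeal R) e]
  | cons x xs ih =>
    intro M _ _ _ hM hreg
    rw [isWeaklyRegular_cons_iff] at hreg
    have h := ih (fun y hy => hxs y (List.mem_cons_of_mem _ hy)) (QuotSMulTop x M)
      (Depth.isCM_quotSMulTop hM (hxs x List.mem_cons_self) hreg.1) hreg.2
    have e := (Submodule.quotOfListConsSMulTopEquivQuotSMulTopInner M x xs)
    unfold LocCoh.IsCohenMacaulayModule at h ⊢
    rw [Module.supportDim_eq_of_equiv e, h, show LocCoh.depth R _ = LocCoh.depth R _ from Depth17.idealDepth_congr (maximalIdeal R) e]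

theorem isWeaklyRegular_iff (hM : LocCoh.IsCohenMacaulayModule R M) (xs : List R)
    (hxs : ∀ x ∈ xs, x ∈ maximalIdeal R) :
    (IsWeaklyRegular M xs ↔
        Module.supportDim R (M ⧸ (Ideal.ofList xs • (⊤ : Submodule R M))) + xs.length = Module.supportDim R M) ∧
      (IsWeaklyRegular M xs → LocCoh.IsCohenMacaulayModule R (M ⧸ (Ideal.ofList xs • (⊤ : Submodule R M)))) := by
  haveI := Depth.nontrivial_of_isCM hM
  have hI : Ideal.ofList xs ≠ ⊤ := fun h =>
    (maximalIdeal.isMaximal R).ne_top (top_le_iff.1 (h.ge.trans (Ideal.span_le.2 hxs)))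
  refine ⟨⟨fun h => ?_, fun h => ?_⟩, fun h => isCM_quotient_ofList xs hxs M hM h⟩
  · exact (Depth.supportDim_eq_add_idealDepth xs.length hI M hM (Depth.idealDepth_span_eq_length xs hxs h)).symm
  · obtain ⟨t, ht⟩ := ENat.ne_top_iff_exists.1 (Depth.idealDepth_ne_top (M := M) hI)
    have h1 := Depth.supportDim_eq_add_idealDepth t hI M hM ht.symm
    haveI := Depth.nontrivial_quotient_ofList (M := M) xs hxs
    obtain ⟨a, ha⟩ := WithBot.ne_bot_iff_exists.1
      ((Module.supportDim_ne_bot_iff_nontrivial R (M ⧸ (Ideal.ofList xs • (⊤ : Submodule R M)))).2 inferInstance)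
    have ha' : a ≠ ⊤ := fun e => by
      have h2 := h.le.trans (Module.supportDim_le_ringKrullDim R M)
      rw [← ha, e] at h2
      obtain ⟨n, hn⟩ : ∃ n : ℕ, ringKrullDim R = n := by
        obtain ⟨n, hn⟩ := ENat.ne_top_iff_exists.1 (Ideal.height_ne_top (I := maximalIdeal R)
          (maximalIdeal.isMaximal R).ne_top)
        exact ⟨n, by rw [← maximalIdeal_height_eq_ringKrullDim, ← hn]; rfl⟩
      rw [hn] at h2
      have h3 : ((⊤ : ℕ∞) : WithBot ℕ∞) ≤ ((n : ℕ∞) : WithBot ℕ∞) := le_trans (le_of_eq (by rw [← WithBot.coe_natCast, ← WithBot.coe_add, top_add])) h2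
      exact ENat.natCast_ne_top n (top_le_iff.1 (WithBot.coe_le_coe.1 h3))
    rw [← h, ← ha] at h1
    have h4 : (a + (xs.length : ℕ∞) : ℕ∞) = a + (t : ℕ∞) := WithBot.coe_inj.1 (by exact_mod_cast h1)
    exact Depth.isWeaklyRegular_of_le_idealDepth xs hxs
      (le_trans (le_of_eq (ENat.add_right_injective_of_ne_top ha' h4)) ht.le)

theorem isCM_localized_and_formula (hM : LocCoh.IsCohenMacaulayModule R M) (p : Ideal R) [p.IsPrime]
    (hp : (⟨p, inferInstance⟩ : PrimeSpectrum R) ∈ Module.support R M) :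
    LocCoh.IsCohenMacaulayModule (Localization.AtPrime p) (LocalizedModule p.primeCompl M) ∧
      Module.supportDim R M = Module.supportDim R (M ⧸ (p • (⊤ : Submodule R M))) +
        Module.supportDim (Localization.AtPrime p) (LocalizedModule p.primeCompl M) := by
  haveI := Depth.nontrivial_of_isCM hM
  haveI : Nontrivial (LocalizedModule p.primeCompl M) := Module.mem_support_iff.1 hp
  haveI : IsNoetherianRing (Localization.AtPrime p) := IsLocalization.isNoetherianRing p.primeCompl _ inferInstance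
  obtain ⟨t, ht⟩ := ENat.ne_top_iff_exists.1 (Depth.idealDepth_ne_top (M := M) (I := p) Ideal.IsPrime.ne_top')
  have h1 := Depth.supportDim_eq_add_idealDepth t Ideal.IsPrime.ne_top' M hM ht.symm
  have h2 : (t : WithBot ℕ∞) ≤ ((LocCoh.depth (Localization.AtPrime p) (LocalizedModule p.primeCompl M) : ℕ∞) : WithBot ℕ∞) := by
    rw [← WithBot.coe_natCast, WithBot.coe_le_coe]
    exact ht.le.trans (Depth.idealDepth_le_localization p p le_rfl)
  have h3 := Depth.depth_le_supportDim (Localization.AtPrime p) (LocalizedModule p.primeCompl M)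
  have h4 := supportDim_localized_add_quot_le M p
  have h5 : Module.supportDim (Localization.AtPrime p) (LocalizedModule p.primeCompl M) ≤ (t : WithBot ℕ∞) := by
    haveI : Nontrivial (M ⧸ (p • (⊤ : Submodule R M))) :=
      Submodule.Quotient.nontrivial_iff.2 (Depth.smul_top_ne_top Ideal.IsPrime.ne_top')
    obtain ⟨a, ha⟩ := WithBot.ne_bot_iff_exists.1
      ((Module.supportDim_ne_bot_iff_nontrivial R (M ⧸ (p • (⊤ : Submodule R M)))).2 inferInstance)
    obtain ⟨b, hb⟩ := WithBot.ne_bot_iff_exists.1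
      ((Module.supportDim_ne_bot_iff_nontrivial (Localization.AtPrime p) (LocalizedModule p.primeCompl M)).2 inferInstance)
    have ha' : a ≠ ⊤ := fun e => by
      have h2 := (Module.supportDim_le_of_surjective (p • (⊤ : Submodule R M)).mkQ (Submodule.mkQ_surjective _)).trans
        (Module.supportDim_le_ringKrullDim R M)
      rw [← ha, e] at h2
      obtain ⟨n, hn⟩ : ∃ n : ℕ, ringKrullDim R = n := by
        obtain ⟨n, hn⟩ := ENat.ne_top_iff_exists.1 (Ideal.height_ne_top (I := maximalIdeal R)
          (maximalIdeal.isMaximal R).ne_top)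
        exact ⟨n, by rw [← maximalIdeal_height_eq_ringKrullDim, ← hn]; rfl⟩
      rw [hn] at h2
      exact ENat.natCast_ne_top n (top_le_iff.1 (WithBot.coe_le_coe.1 h2))
    rw [h1, ← ha, ← hb, ← WithBot.coe_natCast, ← WithBot.coe_add, ← WithBot.coe_add, WithBot.coe_le_coe, add_comm b] at h4
    rw [← hb, ← WithBot.coe_natCast, WithBot.coe_le_coe]
    exact (ENat.add_le_add_iff_left ha').1 h4
  refine ⟨le_antisymm (h5.trans h2) h3, ?_⟩
  rw [h1, le_antisymm h5 (h2.trans h3)]

end GrothLib.CMBasics
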