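import Groth.Agent.Lib.CMBasics.Basic
import Groth.Agent.Lib.Depth.Ischebeck
import Groth.Agent.Lib.Dim.Ring

/-!
# Dimension inequalities for local homomorphisms
-/

set_option autoImplicit false
universe u

open IsLocalRing TensorProduct

namespace GrothLib.CMBasics

theorem coe_height_maximalIdeal (A : Type u) [CommRing A] [IsLocalRing A] :
    ((maximalIdeal A).height : WithBot ℕ∞) = ringKrullDim A := maximalIdeal_height_eq_ringKrullDim

/-- `dim B ≤ dim A + dim B/mB`. -/
theorem ringKrullDim_le_add_fibre (A B : Type u) [CommRing A] [CommRing B]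
    [IsLocalRing A] [IsLocalRing B] [IsNoetherianRing A] [IsNoetherianRing B] [Algebra A B]
    [IsLocalHom (algebraMap A B)] :
    ringKrullDim B ≤ ringKrullDim A + ringKrullDim (B ⧸ (maximalIdeal A).map (algebraMap A B)) := by
  haveI : (maximalIdeal B).LiesOver (maximalIdeal A) :=
    ⟨(((local_hom_TFAE (algebraMap A B)).out 0 4 rfl rfl).1 inferInstance).symm⟩
  have hle : (maximalIdeal A).map (algebraMap A B) ≤ maximalIdeal B :=
    Ideal.map_le_iff_le_comap.2 (Ideal.LiesOver.over (P := maximalIdeal B) (p := maximalIdeal A)).le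
  haveI := (Ideal.Quotient.nontrivial_iff (I := (maximalIdeal A).map (algebraMap A B))).2
    (ne_top_of_le_ne_top (maximalIdeal.isMaximal B).ne_top hle)
  haveI : IsLocalRing (B ⧸ (maximalIdeal A).map (algebraMap A B)) :=
    IsLocalRing.of_surjective' (Ideal.Quotient.mk _) Ideal.Quotient.mk_surjective
  haveI : IsLocalHom (Ideal.Quotient.mk ((maximalIdeal A).map (algebraMap A B))) :=
    IsLocalHom.of_surjective _ Ideal.Quotient.mk_surjective
  rw [← coe_height_maximalIdeal B, ← coe_height_maximalIdeal A,
    ← coe_height_maximalIdeal (B ⧸ (maximalIdeal A).map (algebraMap A B)), ← WithBot.coe_add,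
    WithBot.coe_le_coe, ← IsLocalRing.map_maximalIdeal_of_surjective (Ideal.Quotient.mk _) Ideal.Quotient.mk_surjective]
  exact Ideal.height_le_height_add_of_liesOver (maximalIdeal A) (maximalIdeal B)

/-- The dimension of the support of a module does not depend on the ring of scalars. -/
theorem supportDim_restrictScalars (A B : Type u) [CommRing A] [CommRing B] [Algebra A B]
    (M : Type u) [AddCommGroup M] [Module B M] [Module A M] [IsScalarTower A B M] [Module.Finite A M] :
    Module.supportDim A M = Module.supportDim B M := by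
  haveI : Module.Finite B M := Module.Finite.of_restrictScalars_finite A B M
  rw [Module.supportDim_eq_ringKrullDim_quotient_annihilator, Module.supportDim_eq_ringKrullDim_quotient_annihilator]
  let φ : A ⧸ Module.annihilator A M →+* B ⧸ Module.annihilator B M :=
    Ideal.quotientMap _ (algebraMap A B) fun a ha => by
      rw [Ideal.mem_comap, Module.mem_annihilator]
      intro m
      rw [algebraMap_smul]
      exact Module.mem_annihilator.1 ha m
  letI := φ.toAlgebra
  haveI : Algebra.IsIntegral (A ⧸ Module.annihilator A M) (B ⧸ Module.annihilator B M) := ⟨fun x => by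
    obtain ⟨b, rfl⟩ := Ideal.Quotient.mk_surjective x
    let f : Module.End A M := Algebra.lsmul A A M b
    obtain ⟨P, hP, hP0⟩ := LinearMap.exists_monic_and_aeval_eq_zero A f
    refine ⟨P.map (Ideal.Quotient.mk _), hP.map _, ?_⟩
    rw [Polynomial.eval₂_map]
    have : (Ideal.Quotient.mk (Module.annihilator B M)) (P.eval₂ (algebraMap A B) b) = 0 := by
      rw [Ideal.Quotient.eq_zero_iff_mem, Module.mem_annihilator]
      intro m
      have h := LinearMap.congr_fun hP0 m
      rw [Polynomial.aeval_algHom_apply] at h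
      exact h
    rw [Polynomial.hom_eval₂] at this
    exact this⟩
  refine (GrothLib.Dim.ringKrullDim_eq_of_isIntegral (R := A ⧸ Module.annihilator A M)
    (S := B ⧸ Module.annihilator B M) ?_).symm
  rw [injective_iff_map_eq_zero]
  intro x hx
  obtain ⟨a, rfl⟩ := Ideal.Quotient.mk_surjective x
  have hb : algebraMap A B a ∈ Module.annihilator B M := Ideal.Quotient.eq_zero_iff_mem.1 hx
  rw [Ideal.Quotient.eq_zero_iff_mem, Module.mem_annihilator]
  intro m
  rw [← algebraMap_smul B a m]
  exact Module.mem_annihilator.1 hb m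

/-- `dim M_p ≤ dim M_q` for `p ≤ q`. -/
theorem supportDim_localized_mono {A : Type u} [CommRing A] (M : Type u) [AddCommGroup M] [Module A M]
    (p q : Ideal A) [p.IsPrime] [q.IsPrime] (hpq : p ≤ q) :
    Module.supportDim (Localization.AtPrime p) (LocalizedModule p.primeCompl M) ≤
      Module.supportDim (Localization.AtPrime q) (LocalizedModule q.primeCompl M) := by
  rw [GrLC.supportDim_localized, GrLC.supportDim_localized]
  exact Order.krullDim_le_of_strictMono (fun x => ⟨x.1, x.2.1, x.2.2.trans hpq⟩) fun _ _ h => h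

theorem finite_tensor (A B : Type u) [CommRing A] [CommRing B] [Algebra A B]
    (M : Type u) [AddCommGroup M] [Module A M] [Module.Finite A M] (N : Type u) [AddCommGroup N] [Module B N]
    [Module A N] [IsScalarTower A B N] [Module.Finite B N] : Module.Finite B (N ⊗[A] M) := by
  classical
  obtain ⟨s, hs⟩ := (Module.Finite.fg_top : (⊤ : Submodule B N).FG)
  obtain ⟨u, hu⟩ := (Module.Finite.fg_top : (⊤ : Submodule A M).FG)
  refine ⟨⟨(s ×ˢ u).image fun x => x.1 ⊗ₜ[A] x.2, ?_⟩⟩
  rw [eq_top_iff]
  rintro z -
  induction z using TensorProduct.induction_on with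
  | zero => exact Submodule.zero_mem _
  | add x y hx hy => exact Submodule.add_mem _ hx hy
  | tmul n m =>
    have hm : m ∈ Submodule.span A (u : Set M) := hu ▸ Submodule.mem_top
    induction hm using Submodule.span_induction with
    | zero => rw [TensorProduct.tmul_zero]; exact Submodule.zero_mem _
    | add x y _ _ hx hy => rw [TensorProduct.tmul_add]; exact Submodule.add_mem _ hx hy
    | smul r x _ hx => rw [TensorProduct.tmul_smul]; exact Submodule.smul_of_tower_mem _ r hx
    | mem m hm =>
      have hn : n ∈ Submodule.span B (s : Set N) := hs ▸ Submodule.mem_top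
      induction hn using Submodule.span_induction with
      | zero => rw [TensorProduct.zero_tmul]; exact Submodule.zero_mem _
      | add x y _ _ hx hy => rw [TensorProduct.add_tmul]; exact Submodule.add_mem _ hx hy
      | smul r x _ hx => rw [← TensorProduct.smul_tmul']; exact Submodule.smul_mem _ r hx
      | mem n hn =>
        refine Submodule.subset_span ?_
        rw [Finset.coe_image]
        exact ⟨(n, m), Finset.mem_product.2 ⟨hn, hm⟩, rfl⟩

theorem supportDim_tensor_le (A B : Type u) [CommRing A] [CommRing B] [IsLocalRing A]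
    [IsLocalRing B] [IsNoetherianRing A] [IsNoetherianRing B] [Algebra A B] [IsLocalHom (algebraMap A B)]
    (M : Type u) [AddCommGroup M] [Module A M] [Module.Finite A M] (N : Type u) [AddCommGroup N] [Module B N]
    [Module A N] [IsScalarTower A B N] [Module.Finite B N] :
    Module.supportDim B (N ⊗[A] M) ≤ Module.supportDim A M +
      Module.supportDim B (N ⧸ ((maximalIdeal A).map (algebraMap A B) • (⊤ : Submodule B N))) := by
  rcases subsingleton_or_nontrivial (N ⊗[A] M) with h | h
  · rw [(Module.supportDim_eq_bot_iff_subsingleton _ _).2 h]; exact bot_le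
  haveI : Nontrivial M := not_subsingleton_iff_nontrivial.1 fun h' => not_subsingleton (N ⊗[A] M) (by infer_instance)
  let I := Module.annihilator A M
  let J := Module.annihilator B N ⊔ I.map (algebraMap A B)
  have hJ : J ≤ Module.annihilator B (N ⊗[A] M) := by
    refine sup_le (fun b hb => ?_) (Ideal.map_le_iff_le_comap.2 fun a ha => ?_)
    · rw [Module.mem_annihilator]
      intro z
      induction z using TensorProduct.induction_on with
      | zero => rw [smul_zero]
      | tmul n m => rw [TensorProduct.smul_tmul', Module.mem_annihilator.1 hb n, TensorProduct.zero_tmul]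
      | add x y hx hy => rw [smul_add, hx, hy, add_zero]
    · rw [Ideal.mem_comap, Module.mem_annihilator]
      intro z
      induction z using TensorProduct.induction_on with
      | zero => rw [smul_zero]
      | tmul n m =>
        rw [TensorProduct.smul_tmul', algebraMap_smul, TensorProduct.smul_tmul,
          Module.mem_annihilator.1 ha m, TensorProduct.tmul_zero]
      | add x y hx hy => rw [smul_add, hx, hy, add_zero]
  have hJtop : J ≠ ⊤ := fun e => by
    rw [e, top_le_iff] at hJ
    exact not_subsingleton (N ⊗[A] M) (Module.annihilator_eq_top_iff.1 hJ)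
  have hItop : I ≠ ⊤ := fun e => not_subsingleton M (Module.annihilator_eq_top_iff.1 e)
  haveI := (Ideal.Quotient.nontrivial_iff (I := J)).2 hJtop
  haveI := (Ideal.Quotient.nontrivial_iff (I := I)).2 hItop
  haveI : IsLocalRing (A ⧸ I) := IsLocalRing.of_surjective' (Ideal.Quotient.mk _) Ideal.Quotient.mk_surjective
  haveI : IsLocalRing (B ⧸ J) := IsLocalRing.of_surjective' (Ideal.Quotient.mk _) Ideal.Quotient.mk_surjective
  letI : Algebra (A ⧸ I) (B ⧸ J) :=
    (Ideal.quotientMap J (algebraMap A B) (Ideal.map_le_iff_le_comap.1 le_sup_right)).toAlgebra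
  have hmA : maximalIdeal (A ⧸ I) = (maximalIdeal A).map (Ideal.Quotient.mk I) :=
    (IsLocalRing.map_maximalIdeal_of_surjective (Ideal.Quotient.mk I) Ideal.Quotient.mk_surjective).symm
  have hmB : maximalIdeal (B ⧸ J) = (maximalIdeal B).map (Ideal.Quotient.mk J) :=
    (IsLocalRing.map_maximalIdeal_of_surjective (Ideal.Quotient.mk J) Ideal.Quotient.mk_surjective).symm
  haveI : IsLocalHom (algebraMap (A ⧸ I) (B ⧸ J)) := by
    refine ((local_hom_TFAE (algebraMap (A ⧸ I) (B ⧸ J))).out 0 2 rfl rfl).2 ?_
    rw [hmA, hmB, Ideal.map_map]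
    have : (algebraMap (A ⧸ I) (B ⧸ J)).comp (Ideal.Quotient.mk I) = (Ideal.Quotient.mk J).comp (algebraMap A B) :=
      RingHom.ext fun _ => rfl
    rw [this, ← Ideal.map_map]
    exact Ideal.map_mono (((local_hom_TFAE (algebraMap A B)).out 0 2 rfl rfl).1 inferInstance)
  calc Module.supportDim B (N ⊗[A] M) ≤ ringKrullDim (B ⧸ J) := by
        haveI : Module.Finite B (N ⊗[A] M) := finite_tensor A B M N
        rw [Module.supportDim_eq_ringKrullDim_quotient_annihilator]
        exact ringKrullDim_le_of_surjective (Ideal.Quotient.factor hJ) (Ideal.Quotient.factor_surjective hJ)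
    _ ≤ _ := ringKrullDim_le_add_fibre (A ⧸ I) (B ⧸ J)
    _ ≤ _ := by
        refine add_le_add (Module.supportDim_eq_ringKrullDim_quotient_annihilator (R := A) (M := M)).ge ?_
        let K := (maximalIdeal A).map (algebraMap A B)
        let f : (B ⧸ J) →+* (B ⧸ J) ⧸ (maximalIdeal (A ⧸ I)).map (algebraMap (A ⧸ I) (B ⧸ J)) := Ideal.Quotient.mk _
        unfold Module.supportDim
        rw [Module.support_quotient, Module.support_eq_zeroLocus, ← PrimeSpectrum.zeroLocus_sup,
          ← ringKrullDim_quotient]
        refine ringKrullDim_le_of_surjective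
          (Ideal.Quotient.lift _ (f.comp (Ideal.Quotient.mk J)) fun b hb => ?_)
          (Ideal.Quotient.lift_surjective_of_surjective _ _ (Ideal.Quotient.mk_surjective.comp Ideal.Quotient.mk_surjective))
        have : Module.annihilator B N ⊔ K ≤ RingHom.ker (f.comp (Ideal.Quotient.mk J)) := by
          refine sup_le (fun x hx => ?_) (Ideal.map_le_iff_le_comap.2 fun a ha => ?_)
          · show f (Ideal.Quotient.mk J x) = 0
            rw [Ideal.Quotient.eq_zero_iff_mem.2 (Ideal.mem_sup_left hx : x ∈ J), map_zero]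
          · show f (Ideal.Quotient.mk J (algebraMap A B a)) = 0
            exact Ideal.Quotient.eq_zero_iff_mem.2 (Ideal.mem_map_of_mem (algebraMap (A ⧸ I) (B ⧸ J))
              (show Ideal.Quotient.mk I a ∈ maximalIdeal (A ⧸ I) by rw [hmA]; exact Ideal.mem_map_of_mem _ ha))
        exact this hb

/-- Regular sequences in a prime of the support of a Cohen–Macaulay module. -/
theorem exists_isWeaklyRegular_in_prime {A : Type u} [CommRing A] [IsLocalRing A] [IsNoetherianRing A]
    {M : Type u} [AddCommGroup M] [Module A M] [Module.Finite A M]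
    (hM : LocCoh.IsCohenMacaulayModule A M) (p : PrimeSpectrum A) (hp : p ∈ Module.support A M) (r : ℕ)
    (hr : Module.supportDim A (M ⧸ (p.asIdeal • (⊤ : Submodule A M))) + r = Module.supportDim A M) :
    (∃ xs : List A, xs.length = r ∧ (∀ x ∈ xs, x ∈ p.asIdeal) ∧ RingTheory.Sequence.IsWeaklyRegular M xs) ∧
      ∀ xs : List A, xs.length = r → (∀ x ∈ xs, x ∈ p.asIdeal) → RingTheory.Sequence.IsWeaklyRegular M xs →
        Module.supportDim A (M ⧸ (Ideal.ofList xs • (⊤ : Submodule A M))) =
            Module.supportDim A (M ⧸ (p.asIdeal • (⊤ : Submodule A M))) ∧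
          Module.supportDim A (M ⧸ (p.asIdeal • (⊤ : Submodule A M))) = ringKrullDim (A ⧸ p.asIdeal) ∧
          p.asIdeal ∈ associatedPrimes A (M ⧸ (Ideal.ofList xs • (⊤ : Submodule A M))) ∧
          ∀ q ∈ associatedPrimes A (M ⧸ (Ideal.ofList xs • (⊤ : Submodule A M))), q ≤ p.asIdeal → q = p.asIdeal := by
  haveI := Depth.nontrivial_of_isCM hM
  have hne : p.asIdeal ≠ ⊤ := p.2.ne_top
  have hdimq : Module.supportDim A (M ⧸ (p.asIdeal • (⊤ : Submodule A M))) = ringKrullDim (A ⧸ p.asIdeal) := by
    have hs : Module.support A (M ⧸ (p.asIdeal • (⊤ : Submodule A M))) = PrimeSpectrum.zeroLocus (p.asIdeal : Set A) := by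
      rw [Module.support_quotient]
      exact Set.inter_eq_right.2 fun q hq => Module.mem_support_mono (show p ≤ q from hq) hp
    unfold Module.supportDim
    rw [hs, ringKrullDim_quotient]
  haveI := Ideal.Quotient.nontrivial_iff.2 hne
  obtain ⟨a, ha⟩ := WithBot.ne_bot_iff_exists.1
    (ne_bot_of_le_ne_bot (WithBot.coe_ne_bot (a := (0 : ℕ∞))) (ringKrullDim_nonneg_of_nontrivial (R := A ⧸ p.asIdeal)))
  obtain ⟨n, hn⟩ : ∃ n : ℕ, ringKrullDim A = n := by
    obtain ⟨n, hn⟩ := ENat.ne_top_iff_exists.1 (Ideal.height_ne_top (I := maximalIdeal A)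
      (maximalIdeal.isMaximal A).ne_top)
    exact ⟨n, by rw [← maximalIdeal_height_eq_ringKrullDim, ← hn]; rfl⟩
  have ha' : a ≠ ⊤ := fun e => by
    have h := ringKrullDim_quotient_le p.asIdeal
    rw [← ha, e, hn] at h
    exact ENat.natCast_ne_top n (top_le_iff.1 (WithBot.coe_le_coe.1 h))
  obtain ⟨t, ht⟩ := ENat.ne_top_iff_exists.1 (Depth.idealDepth_ne_top (M := M) hne)
  have h1 := Depth.supportDim_eq_add_idealDepth t hne M hM ht.symm
  rw [← hr, hdimq, ← ha, ← WithBot.coe_natCast, ← WithBot.coe_natCast, ← WithBot.coe_add, ← WithBot.coe_add,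
    WithBot.coe_inj] at h1
  have hrt : (r : ℕ∞) = t := ENat.add_right_injective_of_ne_top ha' h1
  refine ⟨(Depth.le_idealDepth_iff_exists p.asIdeal (Depth.smul_top_ne_top hne) r).1 (hrt.le.trans ht.le), ?_⟩
  intro xs hlen hmem hreg
  have hmax : ∀ x ∈ xs, x ∈ maximalIdeal A := fun x hx => le_maximalIdeal hne (hmem x hx)
  obtain ⟨hiff, hcm⟩ := isWeaklyRegular_iff hM xs hmax
  have hN := hcm hreg
  have h2 := hiff.1 hreg
  have hdim : Module.supportDim A (M ⧸ (Ideal.ofList xs • (⊤ : Submodule A M))) = ringKrullDim (A ⧸ p.asIdeal) := by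
    haveI := Depth.nontrivial_of_isCM hN
    obtain ⟨b, hb⟩ := WithBot.ne_bot_iff_exists.1 ((Module.supportDim_ne_bot_iff_nontrivial A
      (M ⧸ (Ideal.ofList xs • (⊤ : Submodule A M)))).2 inferInstance)
    rw [← hr, hlen, hdimq, ← ha, ← hb, ← WithBot.coe_natCast, ← WithBot.coe_add, ← WithBot.coe_add,
      WithBot.coe_inj] at h2
    rw [← ha, ← hb, ENat.add_left_injective_of_ne_top (ENat.natCast_ne_top r) h2]
  have key : ∀ q ∈ associatedPrimes A (M ⧸ (Ideal.ofList xs • (⊤ : Submodule A M))), q ≤ p.asIdeal → q = p.asIdeal := by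
    intro q hq hle
    haveI := hq.isPrime
    refine le_antisymm hle fun x hx => ?_
    by_contra hxq
    have h3 := Depth.ringKrullDim_quotient_sup_span_add_one_le q hxq
    rw [ringKrullDim_quotient_eq_supportDim hN q hq, hdim] at h3
    have h4 : ringKrullDim (A ⧸ p.asIdeal) ≤ ringKrullDim (A ⧸ (q ⊔ Ideal.span {x})) :=
      ringKrullDim_le_of_surjective (Ideal.Quotient.factor (sup_le hle ((Ideal.span_singleton_le_iff_mem _).2 hx)))
        (Ideal.Quotient.factor_surjective _)
    have h5 := le_trans (add_le_add_left h4 1) h3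
    rw [← ha, ← WithBot.coe_one, ← WithBot.coe_add, WithBot.coe_le_coe] at h5
    exact ha' (by
      induction a using ENat.recTopCoe with
      | top => rfl
      | coe m =>
        have : m + 1 ≤ m := by exact_mod_cast h5
        omega)
  refine ⟨hdim.trans hdimq.symm, hdimq, ?_, key⟩
  have hps : p ∈ Module.support A (M ⧸ (Ideal.ofList xs • (⊤ : Submodule A M))) := by
    rw [Module.support_quotient]
    exact ⟨hp, Ideal.span_le.2 hmem⟩
  obtain ⟨q, hq, hle⟩ := Ideal.exists_minimalPrimes_le (J := p.asIdeal)
    (Module.annihilator_le_of_mem_support hps)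
  have hass := Module.associatedPrimes.minimalPrimes_annihilator_subset_associatedPrimes A _ hq
  exact key q hass hle ▸ hass

end GrothLib.CMBasics
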